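import Mathlib

set_option autoImplicit false
set_option linter.style.haveILetI false

/-!
# The permutation representation of a simple group on the cosets of a subgroup

For a finite simple group `G` and a subgroup `A` of index `n ≥ 2` the action on the cosets of `A`, transported to
`Fin n` with the trivial coset as the point `0`, gives a subgroup `H` of `Equiv.Perm (Fin n)` isomorphic to `G`, which is
transitive, and the stabiliser of the point `0` in `H` is isomorphic to `A`.
-/

namespace Cfsg.Agent.Lib.Helper21.HNA12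

open Subgroup

theorem exists_coset_rep {G : Type*} [Group G] [Finite G] [IsSimpleGroup G] (A : Subgroup G) (n : ℕ) [NeZero n]
    (hn : A.index = n) (hn2 : 2 ≤ n) :
    ∃ H : Subgroup (Equiv.Perm (Fin n)), Nonempty (G ≃* H) ∧ MulAction.IsPretransitive H (Fin n) ∧
      Nonempty (MulAction.stabilizer H (0 : Fin n) ≃* A) := by
  classical
  -- the bijection of the cosets with `Fin n`
  have hcardX : Nat.card (G ⧸ A) = n := hn
  haveI : Finite (G ⧸ A) := Nat.finite_of_card_ne_zero (by rw [hcardX]; exact NeZero.ne n)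
  obtain ⟨f₀⟩ : Nonempty ((G ⧸ A) ≃ Fin n) := ⟨Finite.equivFinOfCardEq hcardX⟩
  let x₀ : G ⧸ A := QuotientGroup.mk 1
  let f : (G ⧸ A) ≃ Fin n := f₀.trans (Equiv.swap (f₀ x₀) 0)
  have hf0 : f x₀ = 0 := by
    show Equiv.swap (f₀ x₀) 0 (f₀ x₀) = 0
    exact Equiv.swap_apply_left _ _
  -- the homomorphism
  let ρ : G →* Equiv.Perm (Fin n) := (f.permCongrHom.toMonoidHom).comp (MulAction.toPermHom G (G ⧸ A))
  have hρ : ∀ (g : G) (p : Fin n), ρ g p = f (g • f.symm p) := fun g p => rfl
  have hρ' : ∀ (g : G) (q : G ⧸ A), ρ g (f q) = f (g • q) := by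
    intro g q
    rw [hρ, Equiv.symm_apply_apply]
  -- injectivity
  have hker : ρ.ker = ⊥ := by
    rcases (MonoidHom.normal_ker ρ).eq_bot_or_eq_top with h | h
    · exact h
    · exfalso
      -- all elements act trivially, so `A = ⊤`
      have hA : A = ⊤ := by
        rw [eq_top_iff]
        intro g _
        have hg : g ∈ ρ.ker := by rw [h]; exact mem_top g
        have h1 : ρ g (f x₀) = f x₀ := by rw [MonoidHom.mem_ker.mp hg]; rfl
        rw [hρ'] at h1
        have h2 : g • x₀ = x₀ := f.injective h1
        have h3 : (QuotientGroup.mk (g * 1) : G ⧸ A) = QuotientGroup.mk 1 := h2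
        rw [mul_one, QuotientGroup.eq, mul_one] at h3
        exact (A.inv_mem_iff).mp h3
      rw [hA, index_top] at hn
      omega
  have hinj : Function.Injective ρ := (MonoidHom.ker_eq_bot_iff ρ).mp hker
  -- transitivity
  have htr : ∀ p : Fin n, ∃ g : G, ρ g 0 = p := by
    intro p
    induction hq : f.symm p using QuotientGroup.induction_on with
    | H g =>
      refine ⟨g, ?_⟩
      rw [← hf0, hρ']
      have : g • x₀ = (QuotientGroup.mk g : G ⧸ A) := by
        show (QuotientGroup.mk (g * 1) : G ⧸ A) = _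
        rw [mul_one]
      rw [this, ← hq, Equiv.apply_symm_apply]
  refine ⟨ρ.range, ⟨MonoidHom.ofInjective hinj⟩, ⟨fun p q => ?_⟩, ?_⟩
  · obtain ⟨gp, hp⟩ := htr p
    obtain ⟨gq, hq⟩ := htr q
    refine ⟨⟨ρ (gq * gp⁻¹), ⟨_, rfl⟩⟩, ?_⟩
    show ρ (gq * gp⁻¹) p = q
    rw [← hp, ← Equiv.Perm.mul_apply, ← map_mul, inv_mul_cancel_right, hq]
  · -- the stabiliser
    have hstab : ∀ g : G, ρ g 0 = 0 ↔ g ∈ A := by
      intro g
      rw [← hf0, hρ']
      constructor
      · intro h
        have h2 : g • x₀ = x₀ := f.injective h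
        have h3 : (QuotientGroup.mk (g * 1) : G ⧸ A) = QuotientGroup.mk 1 := h2
        rw [mul_one, QuotientGroup.eq, mul_one] at h3
        exact (A.inv_mem_iff).mp h3
      · intro h
        congr 1
        show (QuotientGroup.mk (g * 1) : G ⧸ A) = QuotientGroup.mk 1
        rw [mul_one, QuotientGroup.eq, mul_one]
        exact A.inv_mem h
    let ψ : A →* MulAction.stabilizer ρ.range (0 : Fin n) :=
      { toFun := fun a => ⟨⟨ρ a.1, ⟨_, rfl⟩⟩, by
          rw [MulAction.mem_stabilizer_iff]
          exact (hstab a.1).mpr a.2⟩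
        map_one' := by
          apply Subtype.ext; apply Subtype.ext
          exact map_one ρ
        map_mul' := by
          intro a b
          apply Subtype.ext; apply Subtype.ext
          exact map_mul ρ a.1 b.1 }
    have hψinj : Function.Injective ψ := by
      intro a b hab
      apply Subtype.ext
      apply hinj
      exact congrArg (fun s : MulAction.stabilizer ρ.range (0 : Fin n) => ((s : ρ.range) : Equiv.Perm (Fin n))) hab
    have hψsurj : Function.Surjective ψ := by
      rintro ⟨⟨_, ⟨g, rfl⟩⟩, hs⟩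
      rw [MulAction.mem_stabilizer_iff] at hs
      have hg : g ∈ A := (hstab g).mp hs
      exact ⟨⟨g, hg⟩, rfl⟩
    exact ⟨(MulEquiv.ofBijective ψ ⟨hψinj, hψsurj⟩).symm⟩

end Cfsg.Agent.Lib.Helper21.HNA12
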