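import Cfsg.Agent.Lib.Helper21.HNSchur.Solver
import Cfsg.Agent.Lib.Helper25.Moore

set_option autoImplicit false
set_option maxRecDepth 100000
set_option linter.style.haveILetI false

/-!
# An `A₁₂` in the presented group `Spor.HN`

Ten words `y₀, …, y₉` in `x, y, z, t` which satisfy Moore's relations for the alternating group of degree 12
(`y₀³ = yᵢ² = (yᵢ yᵢ₊₁)³ = (yᵢ yⱼ)² = 1`): `y₁ = x²` and `y₂, …, y₉` are conjugates of `x²` (nine involutions of class
`2A` which generate a symmetric group of degree 10) and `y₀` is a product of two such conjugates.  The 55 relators are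
checked with the solution of the word problem (`Solver.ev_eq_one_of`).  The words were found by a search in the
permutation representation on 1539000 points (the points are the conjugates of `x²`).
-/

namespace Cfsg.Agent.Lib.Helper21.HNA12

open Cfsg
open Cfsg.Agent.Lib.Helper3.HN Cfsg.Agent.Lib.Helper3.HN.HNRel
open Cfsg.Agent.Lib.Helper25.Moore
open Cfsg.Agent.Lib.Helper16.HNP.Table
open Cfsg.Agent.Lib.Helper21.HNSchur

/-- the ten Moore generators as words -/
def yW : ℕ → Wd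
  | 0 => [6, 2, 4, 3, 4, 1, 5, 0, 0, 6, 0, 4, 2, 4, 3, 5, 6, 4, 0, 5, 0, 0, 6, 1, 4, 5]
  | 1 => [0, 0]
  | 2 => [5, 2, 4, 3, 4, 6, 0, 0, 5, 4, 2, 4, 3, 6]
  | 3 => [6, 4, 0, 5, 0, 0, 6, 1, 4, 5]
  | 4 => [6, 2, 4, 0, 5, 0, 0, 6, 1, 4, 3, 5]
  | 5 => [2, 4, 5, 0, 3, 4, 5, 0, 0, 6, 4, 2, 1, 6, 4, 3]
  | 6 => [3, 0, 3, 0, 3, 4, 6, 3, 4, 0, 5, 0, 0, 6, 1, 4, 2, 5, 4, 2, 1, 2, 1, 2]
  | 7 => [3, 3, 0, 2, 4, 2, 4, 6, 2, 2, 4, 0, 5, 0, 0, 6, 1, 4, 3, 3, 5, 4, 3, 4, 3, 1, 2, 2]
  | 8 => [2, 2, 4, 2, 4, 3, 0, 5, 3, 0, 3, 3, 4, 5, 0, 0, 6, 4, 2, 2, 1, 2, 6, 1, 2, 4, 3, 4, 3, 3]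
  | 9 => [3, 4, 3, 4, 2, 0, 5, 2, 0, 2, 2, 4, 5, 0, 0, 6, 4, 3, 3, 1, 3, 6, 1, 3, 4, 2, 4, 2]
  | _ => []

/-- the square of a word -/
def rel2 (u : Wd) : Wd := u ++ u
/-- the cube of a word -/
def rel3 (u : Wd) : Wd := u ++ (u ++ u)

/-- the check of the 55 relators -/
noncomputable def mooreOK : Bool :=
  and (Solver.solveOK (rel3 (yW 0)))
    (and ((List.range 9).all fun i => Solver.solveOK (rel2 (yW (i + 1))))
      (and ((List.range 9).all fun i => Solver.solveOK (rel3 (yW i ++ yW (i + 1))))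
        ((List.range 10).all fun i => (List.range 10).all fun j =>
          or (Nat.ble j (i + 1)) (Solver.solveOK (rel2 (yW i ++ yW j))))))

set_option maxHeartbeats 0 in
theorem mooreOK_true : mooreOK = true := by decide +kernel

theorem ev_rel2 (u : Wd) : ev lt (rel2 u) = ev lt u ^ 2 := by
  rw [rel2, ev_append, pow_two]

theorem ev_rel3 (u : Wd) : ev lt (rel3 u) = ev lt u ^ 3 := by
  rw [rel3, ev_append, ev_append, pow_three]

/-- the ten Moore generators -/
noncomputable def yG (k : ℕ) : Spor.HN := ev lt (yW k)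

section Rel

variable (hschur : Cfsg.HasCyclicSchurMultiplier ↥Cfsg.Spor.HS 2)
  (hx : (PresentedGroup.mk Cfsg.Agent.Lib.Helper14.HNx.Main.HNrels Cfsg.Spor.HN.x) ^ 2 ≠ 1)
  (hxx : table.walkT (Cfsg.Agent.Lib.Helper28.TC2Glue.pathOf Cfsg.Agent.Lib.Helper16.HNP.Main.lw
    [(.x, true), (.x, true)]) 1 = 4)

include hschur hx hxx

theorem mooreRel_yG : MooreRel yG 10 := by
  have h := mooreOK_true
  unfold mooreOK at h
  simp only [Bool.and_eq_true] at h
  obtain ⟨h0, h1, h2, h3⟩ := h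
  refine ⟨fun _ => ?_, fun i hi hi' => ?_, fun i hi => ?_, fun i j hij hj => ?_⟩
  · rw [yG, ← ev_rel3]
    exact Solver.ev_eq_one_of hschur hx hxx _ h0
  · obtain ⟨k, rfl⟩ : ∃ k, i = k + 1 := ⟨i - 1, by omega⟩
    have := (List.all_eq_true.mp h1) k (List.mem_range.mpr (by omega))
    rw [yG, ← ev_rel2]
    exact Solver.ev_eq_one_of hschur hx hxx _ this
  · have := (List.all_eq_true.mp h2) i (List.mem_range.mpr (by omega))
    rw [yG, yG, ← ev_append, ← ev_rel3]
    exact Solver.ev_eq_one_of hschur hx hxx _ this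
  · have := (List.all_eq_true.mp ((List.all_eq_true.mp h3) i (List.mem_range.mpr (by omega)))) j
      (List.mem_range.mpr hj)
    rw [Bool.or_eq_true] at this
    rcases this with hble | hs
    · have := Nat.le_of_ble_eq_true hble
      omega
    · rw [yG, yG, ← ev_append, ← ev_rel2]
      exact Solver.ev_eq_one_of hschur hx hxx _ hs

/-- an `A₁₂` in `HN` -/
theorem exists_A12 : ∃ A : Subgroup Spor.HN, Nonempty (A ≃* alternatingGroup (Fin 12)) := by
  obtain ⟨φ, hφ⟩ := exists_hom_of_mooreRel yG 10 (mooreRel_yG hschur hx hxx)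
  obtain ⟨e⟩ := nonempty_mulEquiv_alternatingGroup 10
  have e' : MooreGroup 10 ≃* alternatingGroup (Fin 12) := e
  haveI hs12 : IsSimpleGroup (alternatingGroup (Fin 12)) := alternatingGroup.isSimpleGroup (by simp)
  haveI : Nontrivial (MooreGroup 10) := e'.toEquiv.nontrivial
  haveI hsM : IsSimpleGroup (MooreGroup 10) :=
    IsSimpleGroup.isSimpleGroup_of_surjective e'.symm.toMonoidHom e'.symm.surjective
  have hker : φ.ker = ⊥ := by
    rcases (MonoidHom.normal_ker φ).eq_bot_or_eq_top with h | h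
    · exact h
    · exfalso
      have h1 : (PresentedGroup.of (⟨1, by norm_num⟩ : Fin 10) : MooreGroup 10) ∈ φ.ker := by
        rw [h]; exact Subgroup.mem_top _
      rw [MonoidHom.mem_ker, hφ] at h1
      apply hx
      have e1 : yG 1 = gx * gx := by
        show ev lt [0, 0] = gx * gx
        simp only [ev, List.map_cons, List.map_nil, List.prod_cons, List.prod_nil, lt, mul_one]
      rw [e1] at h1
      rw [pow_two]
      exact h1
  have hinj : Function.Injective φ := (MonoidHom.ker_eq_bot_iff φ).mp hker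
  exact ⟨φ.range, ⟨(MonoidHom.ofInjective hinj).symm.trans e'⟩⟩

end Rel

end Cfsg.Agent.Lib.Helper21.HNA12
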